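import Groth.Agent.L23.LocP
import Groth.Agent.L23.Points
import Groth.Agent.L24.Boot.SmoothSection
import Groth.Prelude.Def_AlgSpCov
import Groth.Prelude.Def_AlgSpEt

/-!
# Smooth coverings are refined by etale coverings
-/

universe u

open CategoryTheory CategoryTheory.Limits AlgebraicGeometry Opposite AlgSp

set_option autoImplicit false
set_option linter.style.haveILetI false
set_option backward.isDefEq.respectTransparency false
set_option backward.isDefEq.respectTransparency.types false

noncomputable section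

namespace Groth.L09.CoverRefine

open Groth.L23

variable {S : Scheme.{u}}

theorem exists_refine {ι : Type u} {X : Sp S} (hX : IsAlgSpace X) {Y : ι → Sp S} (hY : ∀ i, IsAlgSpace (Y i))
    (g : ∀ i, Y i ⟶ X) (h : IsSmCover Y g) :
    ∃ (κ : Type u) (U : κ → Over S) (c : ∀ j, (yon S).obj (U j) ⟶ X),
      IsEtCover (fun j => (yon S).obj (U j)) c ∧
      ∀ j, ∃ (i : ι) (r : (yon S).obj (U j) ⟶ Y i), r ≫ g i = c j := by
  obtain ⟨V, b, hb, hbs⟩ := hX.atlas
  choose W a e ha w has using fun i => exists_chart_over (hY i) hX (g i) hb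
  have key : ∀ v : ↥V.left, ∃ (T : Over S) (c : (yon S).obj T ⟶ X) (t : ↥T.left),
      RepWith @Etale c ∧ Points.ofPt c t = Points.ofPt b v ∧
        ∃ (i : ι) (r : (yon S).obj T ⟶ Y i), r ≫ g i = c := by
    intro v
    obtain ⟨i, z, hz⟩ := h.2 (Points.ofPt b v)
    obtain ⟨x, rfl⟩ := surjective_ofPt (has i hbs) z
    haveI : Smooth (e i).left := h.1 i (a i) b (e i) (ha i) hb (w i)
    obtain ⟨S', q, s', r, hq, hs', hr⟩ := Groth.L24.Boot.exists_etale_nhd_section (e i).left x
    haveI := hq
    let q' : Over.mk (q ≫ V.hom) ⟶ V := Over.homMk q rfl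
    let r' : Over.mk (q ≫ V.hom) ⟶ W i := Over.homMk r (by
      show r ≫ (W i).hom = q ≫ V.hom
      rw [← Over.w (e i), reassoc_of% hr])
    have hre : r' ≫ e i = q' := Over.OverMorphism.ext hr
    refine ⟨_, (yon S).map q' ≫ b, s', repWith_comp (repWith_map (show Etale q'.left from hq)) hb, ?_, i,
      (yon S).map r' ≫ a i, ?_⟩
    · refine (ofPt_comp q' b s').trans ?_
      rw [show q'.left s' = (e i).left x from hs', ← hz]
      refine (ofPt_comp (e i) b x).symm.trans ?_
      rw [← w i]
      exact (Points.map_ofPt (a i) (g i) x).symm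
    · rw [Category.assoc, w i, ← Category.assoc, ← Functor.map_comp, hre]
  choose T c t hc hct r hr using key
  refine ⟨↥V.left, T, c, ⟨fun v => isEtaleMor_of_repWith _ (hc v), fun x => ?_⟩, fun v => ⟨r v, hr v⟩⟩
  obtain ⟨v, rfl⟩ := surjective_ofPt hbs x
  exact ⟨v, Points.ofScheme (T v) (t v), by rw [← Points.ofPt_eq_map_ofScheme]; exact hct v⟩

end Groth.L09.CoverRefine
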